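import Mathlib
import Groth.Prelude.Def_SpSeq

/-! # Basic facts on abstract cohomological spectral sequences and their abutments. -/

set_option autoImplicit false
universe v u
open CategoryTheory Limits

namespace Groth.Agent.LD.SS

variable {C : Type u} [Category.{v} C] [Abelian C] {r₀ : ℤ}
  (E : CohomologicalSpectralSequence C r₀)

lemma isZero_page_succ (r : ℤ) (hr : r₀ ≤ r) (pq : ℤ × ℤ) (h : IsZero ((E.page r hr).X pq)) :
    IsZero ((E.page (r + 1) (by omega)).X pq) := by
  refine IsZero.of_iso ?_ (E.iso r (r + 1) pq rfl hr).symm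
  exact ShortComplex.isZero_homology_of_isZero_X₂ _ h

theorem isZero_page_of_le (r : ℤ) (hr : r₀ ≤ r) (pq : ℤ × ℤ) (h : IsZero ((E.page r hr).X pq))
    (k : ℤ) (hk : r ≤ k) : IsZero ((E.page k (hr.trans hk)).X pq) := by
  induction k, hk using Int.le_induction with
  | base => exact h
  | succ k hk ih => exact isZero_page_succ E k (hr.trans hk) pq ih

/-- vanishing of the differentials through `pq` on page `r` identifies the next page with this one. -/
noncomputable def pageSuccIso (r : ℤ) (hr : r₀ ≤ r) (pq : ℤ × ℤ)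
    (h1 : (E.page r hr).d (pq - (r, 1 - r)) pq = 0)
    (h2 : (E.page r hr).d pq (pq + (r, 1 - r)) = 0) :
    (E.page (r + 1) (by omega)).X pq ≅ (E.page r hr).X pq := by
  refine (E.iso r (r + 1) pq rfl hr).symm ≪≫ ?_
  have hf : ((E.page r hr).sc pq).f = 0 := by
    change (E.page r hr).d _ pq = 0
    by_cases hrel : (ComplexShape.up' ((r, 1 - r) : ℤ × ℤ)).Rel
        ((ComplexShape.up' ((r, 1 - r) : ℤ × ℤ)).prev pq) pq
    · have : (ComplexShape.up' ((r, 1 - r) : ℤ × ℤ)).prev pq = pq - (r, 1 - r) := by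
        have h3 : (ComplexShape.up' ((r, 1 - r) : ℤ × ℤ)).prev pq + (r, 1 - r) = pq := hrel
        exact eq_sub_of_add_eq h3
      rw [this]; exact h1
    · exact (E.page r hr).shape _ _ hrel
  have hg : ((E.page r hr).sc pq).g = 0 := by
    change (E.page r hr).d pq _ = 0
    by_cases hrel : (ComplexShape.up' ((r, 1 - r) : ℤ × ℤ)).Rel pq
        ((ComplexShape.up' ((r, 1 - r) : ℤ × ℤ)).next pq)
    · have : (ComplexShape.up' ((r, 1 - r) : ℤ × ℤ)).next pq = pq + (r, 1 - r) := by
        have h3 : pq + (r, 1 - r) = (ComplexShape.up' ((r, 1 - r) : ℤ × ℤ)).next pq := hrel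
        exact h3.symm
      rw [this]; exact h2
    · exact (E.page r hr).shape _ _ hrel
  exact (ShortComplex.HomologyData.ofZeros ((E.page r hr).sc pq) hf hg).left.homologyIso

/-- at a stationary position all later pages agree. -/
theorem nonempty_page_iso_of_stationary (pq : ℤ × ℤ) (s : ℤ) (hs : SpSeq.StationaryAt E pq s)
    (k : ℤ) (hk : s ≤ k) :
    Nonempty ((E.page k (hs.1.trans hk)).X pq ≅ (E.page s hs.1).X pq) := by
  induction k, hk using Int.le_induction with
  | base => exact ⟨Iso.refl _⟩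
  | succ k hk ih =>
    obtain ⟨e⟩ := ih
    obtain ⟨h1, h2⟩ := hs.2 k (hs.1.trans hk) hk
    exact ⟨pageSuccIso E k (hs.1.trans hk) pq h1 h2 ≪≫ e⟩

end Groth.Agent.LD.SS
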