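import Mathlib
import Groth.Prelude.Def_SpSeq
import Groth.Agent.Lib.Lead.SS.Basic
import Groth.Agent.Lib.Lead.GSS.Coker

/-! # Vanishing and degeneration for abutments. -/

set_option autoImplicit false
universe v u
open CategoryTheory Limits

namespace Groth.Agent.LD.SS

variable {C : Type u} [Category.{v} C] [Abelian C] {r₀ : ℤ}
  (E : CohomologicalSpectralSequence C r₀)

/-- the limit term at a position where some page vanishes is zero. -/
theorem isZero_grPiece (r : ℤ) (hr : r₀ ≤ r) (pq : ℤ × ℤ)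
    (h : IsZero ((E.page r hr).X pq)) {H : ℤ → C} (a : SpSeq.Abutment E H) :
    IsZero (SpSeq.grPiece (a.fil (pq.1 + pq.2)) (a.anti (pq.1 + pq.2)) pq.1) := by
  refine IsZero.of_iso ?_ (a.β pq).symm
  obtain ⟨e⟩ := nonempty_page_iso_of_stationary E pq (a.rk pq) (a.stat pq) (max r (a.rk pq))
    (le_max_right _ _)
  exact IsZero.of_iso (isZero_page_of_le E r hr pq h _ (le_max_left _ _)) e.symm

lemma eq_of_isZero_subquot {X : C} (Z B : Subobject X) (h : B ≤ Z)
    (hz : IsZero (SpSeq.subquot Z B h)) : B = Z := by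
  have hz' : IsZero (cokernel (B.ofLE Z h)) := hz
  haveI : Epi (B.ofLE Z h) := by
    rw [Preadditive.epi_iff_cancel_zero]
    intro P g hg
    have := cokernel.π_desc (B.ofLE Z h) g hg
    rw [← this, hz'.eq_of_src (cokernel.desc (B.ofLE Z h) g hg) 0, comp_zero]
  haveI : IsIso (B.ofLE Z h) := isIso_of_mono_of_epi _
  refine le_antisymm h (Subobject.le_of_comm (inv (B.ofLE Z h)) ?_)
  rw [IsIso.inv_comp_eq, Subobject.ofLE_arrow]

/-- `⊤ / ⊥ ≅ X`. -/
noncomputable def subquotTopBotIso (X : C) (h : (⊥ : Subobject X) ≤ ⊤) :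
    SpSeq.subquot (⊤ : Subobject X) ⊥ h ≅ X :=
  have h0 : (⊥ : Subobject X).ofLE ⊤ h = 0 :=
    (IsZero.of_iso (isZero_zero C) Subobject.botCoeIsoZero).eq_of_src _ _
  (cokernelIsoOfEq h0 ≪≫ cokernelZeroIsoTarget) ≪≫ asIso (⊤ : Subobject X).arrow

/-- if the page `r` vanishes at `(p, n - p)` then `F^{p+1} H^n = F^p H^n`. -/
lemma fil_succ_eq {H : ℤ → C} (a : SpSeq.Abutment E H) (n p : ℤ) (r : ℤ) (hr : r₀ ≤ r)
    (h : IsZero ((E.page r hr).X (p, n - p))) : a.fil n (p + 1) = a.fil n p := by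
  have h0 := isZero_grPiece E r hr (p, n - p) h a
  dsimp only at h0
  generalize hm : p + (n - p) = m at h0
  obtain rfl : m = n := by omega
  exact eq_of_isZero_subquot _ _ _ h0

/-- **S8347**: a spectral sequence with a single nonzero term in each total degree. -/
theorem nonempty_iso_of_single {H : ℤ → C} (a : SpSeq.Abutment E H)
    (r : ℤ) (hr : r₀ ≤ r) (q : ℤ → ℤ)
    (hdeg : ∀ m q' : ℤ, q' ≠ q m → IsZero ((E.page r hr).X (m - q', q')))
    (n : ℤ) (hdisc : (a.filObj n).IsDiscrete) (hexh : a.IsExhaustive n)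
    (hst : SpSeq.StationaryAt E (n - q n, q n) r) :
    Nonempty (H n ≅ (E.page r hr).X (n - q n, q n)) := by
  have hstep : ∀ p : ℤ, p ≠ n - q n → a.fil n (p + 1) = a.fil n p := by
    intro p hp
    refine fil_succ_eq E a n p r hr ?_
    have := hdeg n (n - p) (by omega)
    rwa [show n - (n - p) = p by omega] at this
  -- steps above `p₀`
  have hup : ∀ m : ℤ, n - q n + 1 ≤ m → a.fil n m = a.fil n (n - q n + 1) := by
    intro m hm
    induction m, hm using Int.le_induction with
    | base => rfl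
    | succ m hm ih => rw [hstep m (by omega), ih]
  have hdown : ∀ m : ℤ, m ≤ n - q n → a.fil n m = a.fil n (n - q n) := by
    intro m hm
    induction m, hm using Int.le_induction_down with
    | base => rfl
    | pred m hm ih =>
      have := hstep (m - 1) (by omega)
      rw [show m - 1 + 1 = m by omega] at this
      rw [← this, ih]
  obtain ⟨b, hb⟩ := hdisc
  change a.fil n b = ⊥ at hb
  have hbot : a.fil n (n - q n + 1) = ⊥ := by
    rw [← hup (max b (n - q n + 1)) (le_max_right _ _)]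
    exact le_bot_iff.1 (hb ▸ a.anti n (le_max_left b (n - q n + 1)))
  have htop : a.fil n (n - q n) = ⊤ := by
    refine top_le_iff.1 (hexh.2 ?_)
    rintro _ ⟨m, rfl⟩
    change a.fil n m ≤ _
    rcases le_total m (n - q n) with hm | hm
    · exact (hdown m hm).le
    · exact a.anti n hm
  -- the limit term
  have hβ := a.β (n - q n, q n)
  dsimp only at hβ
  generalize hm : n - q n + q n = m at hβ
  obtain rfl : n = m := by omega
  obtain ⟨e1⟩ := nonempty_page_iso_of_stationary E _ _ (a.stat (n - q n, q n))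
    (max r (a.rk (n - q n, q n))) (le_max_right _ _)
  obtain ⟨e2⟩ := nonempty_page_iso_of_stationary E _ _ hst
    (max r (a.rk (n - q n, q n))) (le_max_left _ _)
  have e3 : SpSeq.grPiece (a.fil n) (a.anti n) (n - q n) ≅ H n :=
    Groth.Agent.LD.GSS.subquotIsoOfEq _ bot_le htop hbot ≪≫ subquotTopBotIso _ _
  exact ⟨e3.symm ≪≫ hβ.symm ≪≫ e1.symm ≪≫ e2⟩

end Groth.Agent.LD.SS
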