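import Mathlib
import Groth.Prelude.Def_SpSeq
import Groth.Agent.Lib.Lead.SS.Basic

/-!
# Weak Serre classes and spectral sequences

If all the terms of the first page of a spectral sequence belong to a class of objects closed under
isomorphisms, zero objects, homology of three-term complexes and extensions, then so do the
abutment objects with finite filtrations.
-/

set_option autoImplicit false
universe v u
open CategoryTheory Limits

namespace Groth.Agent.LD.SS

variable {C : Type u} [Category.{v} C] [Abelian C]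

/-- a class of objects closed under isomorphisms, zero objects, homology and extensions. -/
structure IsWeakSerre (P : C → Prop) : Prop where
  iso : ∀ {X Y : C} (_ : X ≅ Y), P X → P Y
  zero : ∀ {X : C}, IsZero X → P X
  homology : ∀ S : ShortComplex C, P S.X₁ → P S.X₂ → P S.X₃ → P S.homology
  ext : ∀ S : ShortComplex C, S.ShortExact → P S.X₁ → P S.X₃ → P S.X₂

variable {r₀ : ℤ} (E : CohomologicalSpectralSequence C r₀) {P : C → Prop} (hP : IsWeakSerre P)

include hP

lemma prop_page_succ (r : ℤ) (hr : r₀ ≤ r) (h : ∀ pq, P ((E.page r hr).X pq)) :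
    ∀ pq, P ((E.page (r + 1) (by omega)).X pq) := by
  intro pq
  refine hP.iso (E.iso r (r + 1) pq rfl hr) ?_
  exact hP.homology _ (h _) (h _) (h _)

lemma prop_page_of_le (r : ℤ) (hr : r₀ ≤ r) (h : ∀ pq, P ((E.page r hr).X pq))
    (k : ℤ) (hk : r ≤ k) : ∀ pq, P ((E.page k (hr.trans hk)).X pq) := by
  induction k, hk using Int.le_induction with
  | base => exact h
  | succ k hk ih => exact prop_page_succ E hP k (hr.trans hk) ih

lemma prop_grPiece (h : ∀ pq, P ((E.page r₀ le_rfl).X pq)) {H : ℤ → C}
    (a : SpSeq.Abutment E H) (pq : ℤ × ℤ) :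
    P (SpSeq.grPiece (a.fil (pq.1 + pq.2)) (a.anti (pq.1 + pq.2)) pq.1) :=
  hP.iso (a.β pq) (prop_page_of_le E hP r₀ le_rfl h (a.rk pq) (a.stat pq).1 pq)

omit E in
lemma prop_of_subquot {X : C} (Z B : Subobject X) (h : B ≤ Z) (hB : P (B : C))
    (hq : P (SpSeq.subquot Z B h)) : P (Z : C) := by
  have hS : (ShortComplex.mk (B.ofLE Z h) (cokernel.π (B.ofLE Z h))
      (cokernel.condition _)).ShortExact :=
    { exact := ShortComplex.exact_of_g_is_cokernel _ (cokernelIsCokernel _)
      mono_f := inferInstanceAs (Mono (B.ofLE Z h))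
      epi_g := inferInstanceAs (Epi (cokernel.π (B.ofLE Z h))) }
  exact hP.ext _ hS hB hq

/-- **transfer of a weak Serre class to the abutment.** -/
theorem prop_abutment (h : ∀ pq, P ((E.page r₀ le_rfl).X pq)) {H : ℤ → C}
    (a : SpSeq.Abutment E H) (n : ℤ) (hfin : a.IsFinite n) : P (H n) := by
  obtain ⟨⟨x, hx⟩, ⟨y, hy⟩⟩ := hfin
  change a.fil n x = ⊤ at hx
  change a.fil n y = ⊥ at hy
  have hgr : ∀ p : ℤ, P (SpSeq.grPiece (a.fil n) (a.anti n) p) := by
    intro p
    have h0 := prop_grPiece E hP h a (p, n - p)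
    dsimp only at h0
    generalize hm : p + (n - p) = m at h0
    obtain rfl : m = n := by omega
    exact h0
  have hstep : ∀ k : ℕ, P ((a.fil n (y - (k : ℤ)) : Subobject (H n)) : C) := by
    intro k
    induction k with
    | zero =>
      rw [Nat.cast_zero, sub_zero, hy]
      exact hP.zero (IsZero.of_iso (isZero_zero C) Subobject.botCoeIsoZero)
    | succ k ih =>
      have e : y - ((k + 1 : ℕ) : ℤ) + 1 = y - (k : ℤ) := by push_cast; ring
      have h1 := hgr (y - ((k + 1 : ℕ) : ℤ))
      unfold SpSeq.grPiece at h1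
      refine prop_of_subquot hP _ _ _ ?_ h1
      rw [e]
      exact ih
  have htop : a.fil n (min x y) = ⊤ := top_le_iff.1 (hx ▸ a.anti n (min_le_left x y))
  obtain ⟨k, hk⟩ : ∃ k : ℕ, min x y = y - (k : ℤ) :=
    ⟨(y - min x y).toNat, by have := min_le_right x y; omega⟩
  have h2 := hstep k
  rw [← hk, htop] at h2
  exact hP.iso (asIso (⊤ : Subobject (H n)).arrow) h2

end Groth.Agent.LD.SS
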