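import Mathlib
import Groth.Agent.Lib.Lead.SS.WeakSerre
import Groth.Agent.Lib.Lead.SS.Abut
import Groth.Agent.Lib.Helper2.GSSGen5

/-!
# Way-out lemma for right derived functors on `D⁺`

If the right derived functors `R^q F` send a class `PC` of objects into a weak Serre class `PD`,
then `RF` sends bounded below objects with cohomology in `PC` to objects with cohomology in `PD`
(hypercohomology spectral sequence `E₂^{p,q} = R^p F (H^q K) ⇒ H^{p+q}(RF K)`).
-/

set_option autoImplicit false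
universe w w' v v' u u'
open CategoryTheory CategoryTheory.Limits

namespace Groth.Agent.LD.WayOut

open Groth.Agent.LD Groth.Agent.H2.GSSGen Groth.Agent.H2.RDer

variable {C : Type u} [Category.{v} C] [Abelian C] [HasDerivedCategory.{w} C] [EnoughInjectives C]
  {D : Type u'} [Category.{v'} D] [Abelian D] [HasDerivedCategory.{w'} D]
  (F : C ⥤ D) [F.Additive]

/-- a functor all of whose values vanish has vanishing right derived functors. -/
lemma isZero_rightDerived_of_isZero_obj {A : Type*} {B : Type*} [Category A] [Category B]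
    [Abelian A] [Abelian B] [HasInjectiveResolutions A] (G : A ⥤ B) [G.Additive]
    (h : ∀ M, IsZero (G.obj M)) (M : A) (p : ℕ) : IsZero ((G.rightDerived p).obj M) := by
  refine IsZero.of_iso ?_ ((injectiveResolution M).isoRightDerivedObj G p)
  exact ShortComplex.isZero_homology_of_isZero_X₂ _ (h _)

/-- **the way-out lemma.** -/
theorem prop_homology_rightDerivedFunctorPlus {PC : C → Prop} {PD : D → Prop}
    (hPD : SS.IsWeakSerre PD) (hPC : ∀ {G G' : C} (_ : G ≅ G'), PC G → PC G')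
    (hR : ∀ G : C, PC G → ∀ q : ℕ, PD ((F.rightDerived q).obj G))
    (K : DerivedCategory.Plus C)
    (hK : ∀ j : ℤ, PC ((DerivedCategory.homologyFunctor C j).obj K.obj)) (m : ℤ) :
    PD ((DerivedCategory.homologyFunctor D m).obj (F.rightDerivedFunctorPlus.obj K).obj) := by
  obtain ⟨n, hn⟩ := K.property
  haveI : K.IsGE n := (DerivedCategory.Plus.isGE_ι_obj_iff K n).1 hn
  obtain ⟨J₀, hJ₀, hinj₀, ⟨e⟩⟩ := exists_rep_of_isGE K n
  haveI := hJ₀
  haveI := hinj₀
  obtain ⟨Xs, hXs⟩ : ∃ Xs : DerivedCategory.Plus C, Xs = K⟦n⟧ := ⟨_, rfl⟩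
  haveI : Xs.IsGE 0 := by
    rw [hXs]
    exact DerivedCategory.Plus.TStructure.t.isGE_shift K n n 0 (by omega)
  have hpage : ∀ pq : ℤ × ℤ, PD (((spec F Xs).E₂SpectralSequence.page 2 le_rfl).X pq) := by
    rintro ⟨p, q⟩
    by_cases hp : p < 0
    · exact hPD.zero (GSS.isZero_page_of_fst_neg _ 2 le_rfl (p, q) hp)
    by_cases hq : q < 0
    · exact hPD.zero (GSS.isZero_page_of_snd_neg _ 2 le_rfl (p, q) hq)
    obtain ⟨k, rfl⟩ := Int.eq_ofNat_of_zero_le (not_lt.1 hp)
    have e1 := GSS.page2Iso (spec F Xs) (k : ℤ) q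
    obtain ⟨e2⟩ := nonempty_E₂_iso F Xs q k ((k : ℤ) + q) rfl
    have e3 : (HP q).obj Xs ≅ (HP (n + q)).obj K := by
      subst hXs
      exact ((HP (C := C) 0).shiftIso n q (n + q) rfl).app K
    have hc : PC ((HP q).obj Xs) := hPC e3.symm (hK (n + q))
    exact hPD.iso (e1 ≪≫ e2).symm (hR _ hc k)
  have hab := SS.prop_abutment (spec F Xs).E₂SpectralSequence hPD hpage
    (GSS.abutment (spec F Xs)) (m - n) (GSS.abutment_isFinite _ _)
  have e4 : K⟦m⟧ ≅ Xs⟦m - n⟧ := by
    subst hXs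
    exact (shiftFunctorAdd' (DerivedCategory.Plus C) n (m - n) m (by omega)).app K
  have hΦ : PD ((Φ F).obj (K⟦m⟧)) := hPD.iso ((Φ F).mapIso e4).symm hab
  have e5 := ((F.rightDerivedFunctorPlus ⋙ (DerivedCategory.Plus.ι (C := D)) ⋙
    DerivedCategory.homologyFunctor D m).mapIso e).symm
  have e6 := Groth.Agent.H2.RLong.θ F m n n (𝟙 J₀)
  obtain ⟨e7⟩ := nonempty_Φ_shift_iso F K J₀ n e m
  exact hPD.iso (e7 ≪≫ e6.symm ≪≫ e5.symm) hΦ

end Groth.Agent.LD.WayOut
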