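import Mathlib
import Groth.Prelude.Def_SpSeq
import Groth.Prelude.Def_W4c1gvcharpAbut
import Groth.Agent.Lib.Lead.SS.Abut

/-! # Morphisms of spectral sequences with abutments. -/

set_option autoImplicit false
universe v u
open CategoryTheory Limits

namespace Groth.Agent.LD.SS

variable {C : Type u} [Category.{v} C] [Abelian C] {r₀ : ℤ}
  {E E' : CohomologicalSpectralSequence C r₀}

lemma homologyMap_eq_zero {ι : Type*} {c : ComplexShape ι} {K L : HomologicalComplex C c}
    (f : K ⟶ L) (i : ι) (h : f.f i = 0) : HomologicalComplex.homologyMap f i = 0 := by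
  have h1 : HomologicalComplex.cyclesMap f i = 0 := by
    rw [← cancel_mono (L.iCycles i), HomologicalComplex.cyclesMap_i, h, comp_zero, zero_comp]
  rw [← cancel_epi (K.homologyπ i), HomologicalComplex.homologyπ_naturality, h1, zero_comp,
    comp_zero]

lemma hom_f_eq_zero_succ (φ : E ⟶ E') (r : ℤ) (hr : r₀ ≤ r) (pq : ℤ × ℤ)
    (h : (φ.hom r hr).f pq = 0) : (φ.hom (r + 1) (by omega)).f pq = 0 := by
  have := φ.comm r (r + 1) pq rfl hr
  rw [homologyMap_eq_zero _ _ h, zero_comp] at this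
  rw [← cancel_epi (E.iso r (r + 1) pq rfl hr).hom, ← this, comp_zero]

theorem hom_f_eq_zero_of_le (φ : E ⟶ E') (r : ℤ) (hr : r₀ ≤ r) (pq : ℤ × ℤ)
    (h : (φ.hom r hr).f pq = 0) (k : ℤ) (hk : r ≤ k) : (φ.hom k (hr.trans hk)).f pq = 0 := by
  induction k, hk using Int.le_induction with
  | base => exact h
  | succ k hk ih => exact hom_f_eq_zero_succ φ k (hr.trans hk) pq ih

lemma eq_zero_of_comp_cokernel_π {X Y Z : C} (g : X ⟶ Y) (hg : g = 0) (t : Z ⟶ Y)
    (ht : t ≫ cokernel.π g = 0) : t = 0 := by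
  subst hg
  haveI : IsIso (cokernel.π (0 : X ⟶ Y)) := cokernel.π_zero_isIso
  exact (cancel_mono (cokernel.π (0 : X ⟶ Y))).1 (ht.trans zero_comp.symm)

theorem abutHom_eq_zero (φ : E ⟶ E') {H H' : ℤ → C}
    (a : SpSeq.Abutment E H) (a' : SpSeq.Abutment E' H') (l a₀ : ℤ)
    (ha : a.IsFinite l) (ha' : a'.IsFinite l)
    (f : SpSeqMor.AbutHom φ a a')
    (hE : ∀ i : ℤ, i < a₀ → IsZero ((E.page r₀ le_rfl).X (i, l - i)))
    (hE' : ∀ i : ℤ, a₀ < i → IsZero ((E'.page r₀ le_rfl).X (i, l - i)))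
    (hφ : (φ.hom r₀ le_rfl).f (a₀, l - a₀) = 0) :
    f.hom l = 0 := by
  -- the filtration of `H l` is everything at `a₀`
  have hdown : ∀ m : ℤ, m ≤ a₀ → a.fil l m = a.fil l a₀ := by
    intro m hm
    induction m, hm using Int.le_induction_down with
    | base => rfl
    | pred m hm ih =>
      have := fil_succ_eq E a l (m - 1) r₀ le_rfl (hE (m - 1) (by omega))
      rw [show m - 1 + 1 = m by omega] at this
      rw [← this, ih]
  have htop : a.fil l a₀ = ⊤ := by
    obtain ⟨a1, ha1⟩ := ha.1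
    change a.fil l a1 = ⊤ at ha1
    rcases le_total a1 a₀ with h | h
    · rw [← hdown a1 h, ha1]
    · exact top_le_iff.1 (ha1 ▸ a.anti l h)
  -- the filtration of `H' l` is zero at `a₀ + 1`
  have hup : ∀ m : ℤ, a₀ + 1 ≤ m → a'.fil l m = a'.fil l (a₀ + 1) := by
    intro m hm
    induction m, hm using Int.le_induction with
    | base => rfl
    | succ m hm ih =>
      rw [fil_succ_eq E' a' l m r₀ le_rfl (hE' m (by omega)), ih]
  have hbot : a'.fil l (a₀ + 1) = ⊥ := by
    obtain ⟨b, hb⟩ := ha'.2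
    change a'.fil l b = ⊥ at hb
    rw [← hup (max b (a₀ + 1)) (le_max_right _ _)]
    exact le_bot_iff.1 (hb ▸ a'.anti l (le_max_left b (a₀ + 1)))
  -- the graded map vanishes
  have hgr : (f.fil (a₀ + (l - a₀))).gr a₀ = 0 := by
    have hr1 : r₀ ≤ a.rk (a₀, l - a₀) := (a.stat (a₀, l - a₀)).1
    have hr2 : r₀ ≤ a'.rk (a₀, l - a₀) := (a'.stat (a₀, l - a₀)).1
    have hc := f.comm (a₀, l - a₀) (a'.rk (a₀, l - a₀) - r₀).toNat (a.rk (a₀, l - a₀) - r₀).toNat
      (by
        rw [Int.toNat_of_nonneg (by omega), Int.toNat_of_nonneg (by omega)]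
        omega)
    rw [hom_f_eq_zero_of_le φ r₀ le_rfl (a₀, l - a₀) hφ _ _] at hc
    · simp only [zero_comp, comp_zero] at hc
      exact (cancel_epi (a.β (a₀, l - a₀)).hom).1 (hc.trans comp_zero.symm)
    · exact SpSeqMor.page_le hr2 _
  generalize hm : a₀ + (l - a₀) = m at hgr
  obtain rfl : m = l := by omega
  -- hence the lift vanishes
  have h1 : (f.fil m).lift a₀ ≫
      cokernel.π ((a'.filObj m).stepLE (Int.le_add_one (le_refl a₀))) = 0 := by
    have : cokernel.π ((a.filObj m).stepLE (Int.le_add_one (le_refl a₀))) ≫ (f.fil m).gr a₀ =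
        (f.fil m).lift a₀ ≫ cokernel.π ((a'.filObj m).stepLE (Int.le_add_one (le_refl a₀))) :=
      cokernel.π_desc _ _ _
    rw [← this, hgr]
    exact comp_zero
  have hz : (a'.filObj m).stepLE (Int.le_add_one (le_refl a₀)) = 0 := by
    have hZ : IsZero ((a'.fil m (a₀ + 1) : Subobject (H' m)) : C) := by
      rw [hbot]
      exact IsZero.of_iso (isZero_zero C) Subobject.botCoeIsoZero
    exact hZ.eq_of_src _ _
  have h2 : (f.fil m).lift a₀ = 0 := eq_zero_of_comp_cokernel_π _ hz _ h1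
  have h3 : (a.fil m a₀).arrow ≫ f.hom m = 0 := by
    have := (f.fil m).lift_arrow a₀
    rw [h2, zero_comp] at this
    exact this.symm
  haveI : IsIso (a.fil m a₀).arrow := (Subobject.isIso_arrow_iff_eq_top _).2 htop
  exact (cancel_epi (a.fil m a₀).arrow).1 (h3.trans comp_zero.symm)

end Groth.Agent.LD.SS
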